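import Mathlib.RingTheory.Flat.Equalizer
import Mathlib.RingTheory.Flat.TorsionFree
import Mathlib.RingTheory.DedekindDomain.Ideal.Lemmas
import Mathlib.RingTheory.Artinian.Module
import Mathlib.FieldTheory.IsAlgClosed.Basic
import Mathlib.LinearAlgebra.TensorProduct.Quotient
import Mathlib.LinearAlgebra.TensorProduct.RightExactness

/-!
# Purity over a Dedekind domain detected on residue fields
-/

set_option autoImplicit false
set_option linter.style.haveILetI false
universe u

open TensorProduct

namespace Groth.Agent.Lib.PinchCoh27.Alg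

variable {R : Type u} [CommRing R] [IsDedekindDomain R]
  {F D : Type u} [AddCommGroup F] [Module R F] [AddCommGroup D] [Module R D]

theorem smul_mem_of_inj (u : F →ₗ[R] D) (m : Ideal R)
    (h : Function.Injective (u.lTensor (R ⧸ m))) {f : F} {π : R} (hπ : π ∈ m) {d : D}
    (e : u f = π • d) : f ∈ m • (⊤ : Submodule R F) := by
  have h1 : (1 : R ⧸ m) ⊗ₜ[R] f = 0 := by
    refine h ?_
    rw [LinearMap.lTensor_tmul, e, map_zero, ← TensorProduct.smul_tmul, Algebra.smul_def, mul_one,
      Ideal.Quotient.algebraMap_eq, Ideal.Quotient.eq_zero_iff_mem.2 hπ, TensorProduct.zero_tmul]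
  have h2 := congrArg (TensorProduct.quotTensorEquivQuotSMul F m) h1
  rw [map_zero, ← (Ideal.Quotient.mk m).map_one, TensorProduct.quotTensorEquivQuotSMul_mk_tmul,
    one_smul] at h2
  exact (Submodule.Quotient.mk_eq_zero _).1 h2

/-- A map into a torsion-free module, injective on all residue fields, has torsion-free cokernel. -/
theorem mem_range_of_smul_mem [Module.IsTorsionFree R D] (u : F →ₗ[R] D)
    (hu : ∀ m : Ideal R, m.IsMaximal → Function.Injective (u.lTensor (R ⧸ m)))
    {r : R} (hr : r ≠ 0) {d : D} (hd : r • d ∈ LinearMap.range u) : d ∈ LinearMap.range u := by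
  let J : Ideal R := (LinearMap.range u).comap (LinearMap.toSpanSingleton R D d)
  by_contra hcon
  have hJ : J ≠ ⊤ := fun h => hcon (by
    have h1 : (1 : R) ∈ J := h ▸ Submodule.mem_top
    simpa [J] using h1)
  obtain ⟨m, hm, hle⟩ := J.exists_le_maximal hJ
  obtain ⟨J', hJ'⟩ := Ideal.dvd_iff_le.2 hle
  have hJ0 : J ≠ 0 := fun h => hr (by
    have : r ∈ J := hd
    rw [h] at this
    simpa using this)
  have hm0 : m ≠ 0 := fun h => hJ0 (by rw [hJ', h, zero_mul])
  have hJJ : ¬ J' ≤ J := fun h => by
    have h1 : J' = J := le_antisymm h (hJ'.le.trans Ideal.mul_le_right)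
    rw [h1] at hJ'
    have h2 : 1 * J = m * J := by rw [one_mul]; exact hJ'
    exact hm.ne_top (by rw [← Ideal.one_eq_top]; exact (mul_right_cancel₀ hJ0 h2).symm)
  obtain ⟨t, ht, htJ⟩ := SetLike.not_le_iff_exists.1 hJJ
  have hmt : ∀ s ∈ m, s * t ∈ J := fun s hs => by rw [hJ']; exact Ideal.mul_mem_mul hs ht
  have hmm : ¬ m ≤ m * m := fun h => by
    have h2 : m * 1 = m * m := by rw [mul_one]; exact le_antisymm h Ideal.mul_le_left
    exact hm.ne_top (by rw [← Ideal.one_eq_top]; exact (mul_left_cancel₀ hm0 h2).symm)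
  obtain ⟨π, hπ, hπ2⟩ := SetLike.not_le_iff_exists.1 hmm
  have hπ0 : π ≠ 0 := fun h => hπ2 (h ▸ zero_mem _)
  obtain ⟨I, hI⟩ := Ideal.dvd_iff_le.2 ((Ideal.span_singleton_le_iff_mem m).2 hπ)
  have hIm : ¬ I ≤ m := fun h => hπ2 ((Ideal.mul_mono le_rfl h)
    (hI ▸ Ideal.mem_span_singleton_self π))
  obtain ⟨c, hc, hcm⟩ := SetLike.not_le_iff_exists.1 hIm
  obtain ⟨f, hf⟩ : π • (t • d) ∈ LinearMap.range u := by
    rw [smul_smul]; exact hmt π hπ
  have hfm := smul_mem_of_inj u m (hu m hm) hπ hf
  have hcf : ∀ g ∈ m • (⊤ : Submodule R F), ∃ g', c • g = π • g' := fun g hg => by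
    refine Submodule.smul_induction_on hg (fun a ha g _ => ?_) fun g g' ⟨a, ha⟩ ⟨b, hb⟩ => ⟨a + b, by rw [smul_add, ha, hb, smul_add]⟩
    have : c * a ∈ Ideal.span {π} := by rw [hI, mul_comm c a]; exact Ideal.mul_mem_mul ha hc
    obtain ⟨q, hq⟩ := Ideal.mem_span_singleton'.1 this
    exact ⟨q • g, by rw [smul_smul, ← hq, smul_smul, mul_comm]⟩
  obtain ⟨g, hg⟩ := hcf f hfm
  have h3 : u g = c • (t • d) := by
    refine smul_right_injective D hπ0 ?_
    show π • u g = π • c • t • d
    rw [← map_smul, ← hg, map_smul, hf, smul_comm]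
  have hct : c * t ∈ J := by
    show (c * t) • d ∈ LinearMap.range u
    rw [← smul_smul, ← h3]
    exact ⟨g, rfl⟩
  obtain ⟨a, s, hs, has⟩ := Ideal.IsMaximal.exists_inv hm hcm
  exact htJ (by
    have := add_mem (J.mul_mem_left a hct) (hmt s hs)
    rwa [← mul_assoc, ← add_mul, has, one_mul] at this)

/-- Such a map is universally injective. -/
theorem lTensor_injective [Module.IsTorsionFree R D] (u : F →ₗ[R] D) (hi : Function.Injective u)
    (hu : ∀ m : Ideal R, m.IsMaximal → Function.Injective (u.lTensor (R ⧸ m)))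
    (A : Type u) [AddCommGroup A] [Module R A] : Function.Injective (u.lTensor A) := by
  haveI : Module.IsTorsionFree R (D ⧸ LinearMap.range u) := by
    rw [Module.isTorsionFree_iff_smul_eq_zero]
    intro r x h
    refine or_iff_not_imp_left.2 fun hr => ?_
    obtain ⟨d, rfl⟩ := Submodule.Quotient.mk_surjective _ x
    rw [← Submodule.Quotient.mk_smul, Submodule.Quotient.mk_eq_zero] at h
    exact (Submodule.Quotient.mk_eq_zero _).2 (mem_range_of_smul_mem u hu hr h)
  exact LinearMap.lTensor_injective_of_exact_of_flat (LinearMap.range u).mkQ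
    (Submodule.mkQ_surjective _) u hi (LinearMap.exact_map_mkQ_range u) A

/-- A finite reduced algebra over an algebraically closed field without nontrivial idempotents. -/
theorem mem_range_algebraMap {L S : Type u} [Field L] [IsAlgClosed L] [CommRing S] [Algebra L S]
    [Module.Finite L S] [IsReduced S] [Nontrivial S] (hid : ∀ e : S, IsIdempotentElem e → e = 0 ∨ e = 1)
    (x : S) : x ∈ Set.range (algebraMap L S) := by
  haveI : IsArtinianRing S := IsArtinianRing.of_finite L S
  have hfield : IsField S := by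
    refine ⟨exists_pair_ne S, mul_comm, fun {z} hz => ?_⟩
    obtain ⟨n, y, hy⟩ := IsArtinian.exists_pow_succ_smul_dvd z (1 : S)
    simp only [smul_eq_mul, mul_one] at hy
    have hstep : ∀ j : ℕ, z ^ n * (z * y) ^ j = z ^ n := fun j => by
      induction j with
      | zero => simp
      | succ j ih =>
        rw [pow_succ (z * y), ← mul_assoc, ih, ← mul_assoc, ← pow_succ, hy]
    have he : IsIdempotentElem ((z * y) ^ n) := by
      show (z * y) ^ n * (z * y) ^ n = _
      calc (z * y) ^ n * (z * y) ^ n = y ^ n * (z ^ n * (z * y) ^ n) := by rw [mul_pow z y n]; ring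
        _ = (z * y) ^ n := by rw [hstep n, mul_pow]; ring
    rcases hid _ he with h | h
    · exfalso
      have h1 := hstep n
      rw [h, mul_zero] at h1
      exact hz (pow_eq_zero_iff'.1 h1.symm |>.1)
    · rcases n with _ | n
      · rw [pow_zero, pow_one] at hy
        exact ⟨y, hy⟩
      · refine ⟨y * (z * y) ^ n, ?_⟩
        rw [← mul_assoc, ← pow_succ', h]
  letI := hfield.toField
  exact (IsAlgClosed.algebraMap_bijective_of_isIntegral (k := L) (K := S)).2 x

end Groth.Agent.Lib.PinchCoh27.Alg
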