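import Groth.Agent.Lib.Amp36.Contraction.Basic
import Groth.Agent.Lib.HilbD.Content
import Groth.Agent.H90.ConnFun
import Mathlib.AlgebraicGeometry.GammaSpecAdjunction
import Mathlib.AlgebraicGeometry.Morphisms.Proper
import Mathlib.Algebra.Category.Ring.Constructions
import Mathlib.RingTheory.TensorProduct.Basic

/-!
# Global sections of base changes over an affine base
-/

set_option autoImplicit false
set_option linter.style.haveILetI false
universe u

open CategoryTheory Limits AlgebraicGeometry Opposite TopologicalSpace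
open scoped TensorProduct

noncomputable section

namespace Groth.Agent.Lib.PinchCoh27.Geom

theorem isIso_app_of_top {P Y : Scheme.{u}} [IsAffine Y] (p : P ⟶ Y) [QuasiCompact p] [QuasiSeparated p]
    (h : IsIso p.appTop) (U : Y.Opens) : IsIso (p.app U) := by
  have hbij : Function.Bijective (p.app (⊤ : Y.Opens)) := (ConcreteCategory.isIso_iff_bijective _).1 h
  have hc : IsCompact (p ⁻¹ᵁ (⊤ : Y.Opens)).1 := QuasiCompact.isCompact_preimage (f := p) _ isOpen_univ isCompact_univ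
  haveI : QuasiSeparatedSpace P := (quasiSeparated_iff_quasiSeparatedSpace p).1 inferInstance
  have hq : IsQuasiSeparated (p ⁻¹ᵁ (⊤ : Y.Opens)).1 := by
    show IsQuasiSeparated (Set.univ : Set P)
    exact isQuasiSeparated_univ
  let φ : Y.sheaf ⟶ (TopCat.Sheaf.pushforward _ p.base).obj P.sheaf := ⟨p.c⟩
  haveI : IsIso φ := by
    refine (TopCat.Sheaf.isIso_iff_isIso_basis (B := fun r : Γ(Y, ⊤) => Y.basicOpen r) (φ := φ) ?_ ?_)
    · exact isBasis_basicOpen Y
    · intro r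
      refine (ConcreteCategory.isIso_iff_bijective _).2
        ⟨Amp36.Contraction.Basic.injective_app_basicOpen p (isAffineOpen_top Y) hc hq r fun b hb => ?_,
          Amp36.Contraction.Basic.surjective_app_basicOpen p (isAffineOpen_top Y) hc hq r fun c => hbij.2 _⟩
      rw [hbij.1 (hb.trans (map_zero (p.app ⊤).hom).symm), mul_zero]
  have : IsIso φ.hom := (TopCat.Sheaf.forget _ _).map_isIso φ
  exact inferInstanceAs (IsIso (φ.hom.app (op U)))

variable {Y : Scheme.{u}} [IsAffine Y] (A : Type u) [CommRing A] (φ : Γ(Y, ⊤) →+* A)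

/-- The morphism `Spec A ⟶ Y` of `φ`. -/
abbrev g : Spec (CommRingCat.of A) ⟶ Y := Spec.map (CommRingCat.ofHom φ) ≫ Y.isoSpec.inv

theorem g_appTop :
    (g A φ).appTop = CommRingCat.ofHom φ ≫ (Scheme.ΓSpecIso (CommRingCat.of A)).inv := by
  rw [Scheme.ΓSpecIso_inv_naturality, g, Scheme.Hom.comp_appTop]
  congr 1
  haveI : IsIso Y.isoSpec.hom.appTop := inferInstanceAs (IsIso (Y.isoSpec.hom.app ⊤))
  rw [← cancel_mono Y.isoSpec.hom.appTop, ← Scheme.Hom.comp_appTop, Iso.hom_inv_id, Scheme.Hom.id_appTop,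
    show Y.isoSpec.hom = Y.toSpecΓ from rfl, Scheme.toSpecΓ_appTop]
  exact (Iso.inv_hom_id _).symm

/-- The sections of the base change. -/
abbrev GB {W : Scheme.{u}} (w : W ⟶ Y) : CommRingCat.{u} := Γ(pullback w (g A φ), ⊤)

/-- Constants of the base change. -/
abbrev cst {W : Scheme.{u}} (w : W ⟶ Y) : CommRingCat.of A ⟶ GB A φ w :=
  (Scheme.ΓSpecIso (CommRingCat.of A)).inv ≫ (pullback.snd w (g A φ)).appTop

/-- The base change square of global sections is a push-out. -/
def IsBC {W : Scheme.{u}} (w : W ⟶ Y) : Prop :=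
  IsPushout w.appTop (CommRingCat.ofHom φ) (pullback.fst w (g A φ)).appTop (cst A φ w)

theorem isBC_of_isAffineHom {W : Scheme.{u}} (w : W ⟶ Y) [IsAffineHom w] : IsBC A φ w := by
  haveI : IsAffineHom (pullback.snd w (g A φ)) := MorphismProperty.pullback_snd _ _ inferInstance
  have h := HilbD.Content.isPushout_appLE (IsPullback.of_hasPullback w (g A φ))
    ⟨⊤, isAffineOpen_top Y⟩ ⟨⊤, isAffineOpen_top _⟩ le_top le_top
  have h' : IsPushout (g A φ).appTop w.appTop (pullback.snd w (g A φ)).appTop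
      (pullback.fst w (g A φ)).appTop := by
    refine h.of_iso (Iso.refl _) (Iso.refl _) (Iso.refl _) (Iso.refl _) ?_ ?_ ?_ ?_ <;>
      simp only [Iso.refl_hom, Category.comp_id, Category.id_comp, Scheme.Hom.appTop, Scheme.Hom.app_eq_appLE] <;> rfl
  refine h'.flip.of_iso (Iso.refl _) (Iso.refl _) (Scheme.ΓSpecIso (CommRingCat.of A)) (Iso.refl _) ?_ ?_ ?_ ?_
  · simp
  · rw [g_appTop, Category.assoc, Iso.inv_hom_id, Category.comp_id, Iso.refl_hom, Category.id_comp]
  · simp only [Iso.refl_hom, Category.comp_id, Category.id_comp]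
  · simp only [Iso.refl_hom, Category.comp_id, cst, Iso.hom_inv_id_assoc]

variable {W : Scheme.{u}} (w : W ⟶ Y)

/-- `A ⊗ Γ(W) ≅ Γ(W_A)` on the underlying rings. -/
theorem exists_equiv (h : IsBC A φ w) :
    letI := φ.toAlgebra
    letI := w.appTop.hom.toAlgebra
    ∃ Θ : A ⊗[Γ(Y, ⊤)] Γ(W, ⊤) →+* GB A φ w, Function.Bijective Θ ∧
      (∀ a, Θ (a ⊗ₜ 1) = cst A φ w a) ∧ ∀ e, Θ (1 ⊗ₜ e) = (pullback.fst w (g A φ)).appTop e := by
  letI := φ.toAlgebra
  letI := w.appTop.hom.toAlgebra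
  have h0 := CommRingCat.isPushout_tensorProduct Γ(Y, ⊤) A Γ(W, ⊤)
  have h1 : IsPushout (CommRingCat.ofHom (algebraMap Γ(Y, ⊤) A))
      (CommRingCat.ofHom (algebraMap Γ(Y, ⊤) Γ(W, ⊤))) (cst A φ w) (pullback.fst w (g A φ)).appTop := h.flip
  let i := h0.isoIsPushout _ _ h1
  refine ⟨i.hom.hom, ConcreteCategory.bijective_of_isIso i.hom, fun a => ?_, fun e => ?_⟩
  · exact ConcreteCategory.congr_hom (IsPushout.inl_isoIsPushout_hom _ _ h0 h1) a
  · exact ConcreteCategory.congr_hom (IsPushout.inr_isoIsPushout_hom _ _ h0 h1) e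

/-- A chosen identification. -/
def theta (h : IsBC A φ w) :=
  (exists_equiv A φ w h).choose

theorem theta_bijective (h : IsBC A φ w) : Function.Bijective (theta A φ w h) :=
  (exists_equiv A φ w h).choose_spec.1

theorem theta_cst (h : IsBC A φ w) (a : A) :
    letI := φ.toAlgebra; letI := w.appTop.hom.toAlgebra
    theta A φ w h (a ⊗ₜ 1) = cst A φ w a :=
  (exists_equiv A φ w h).choose_spec.2.1 a

theorem theta_fst (h : IsBC A φ w) (e : Γ(W, ⊤)) :
    letI := φ.toAlgebra; letI := w.appTop.hom.toAlgebra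
    theta A φ w h (1 ⊗ₜ e) = (pullback.fst w (g A φ)).appTop e :=
  (exists_equiv A φ w h).choose_spec.2.2 e

theorem theta_natural {W' : Scheme.{u}} (w' : W' ⟶ Y) (h : IsBC A φ w) (h' : IsBC A φ w')
    (i : W' ⟶ W) (hi : i ≫ w = w') (iA : pullback w' (g A φ) ⟶ pullback w (g A φ))
    (e1 : iA ≫ pullback.fst _ _ = pullback.fst _ _ ≫ i) (e2 : iA ≫ pullback.snd _ _ = pullback.snd _ _) :
    letI := φ.toAlgebra; letI := w.appTop.hom.toAlgebra; letI := w'.appTop.hom.toAlgebra
    ∀ (f : Γ(W, ⊤) →ₐ[Γ(Y, ⊤)] Γ(W', ⊤)), (∀ x, f x = i.appTop x) →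
      ∀ z, iA.appTop (theta A φ w h z) = theta A φ w' h' (f.toLinearMap.lTensor A z) := by
  letI := φ.toAlgebra; letI := w.appTop.hom.toAlgebra; letI := w'.appTop.hom.toAlgebra
  intro f hf z
  induction z using TensorProduct.induction_on with
  | zero => simp only [map_zero]
  | add x y hx hy => simp only [map_add, hx, hy]
  | tmul a e =>
    have e3 : a ⊗ₜ[Γ(Y, ⊤)] e = (a ⊗ₜ 1) * (1 ⊗ₜ e) := by simp
    have e4 : a ⊗ₜ[Γ(Y, ⊤)] f e = (a ⊗ₜ 1) * (1 ⊗ₜ f e) := by simp
    rw [LinearMap.lTensor_tmul]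
    show _ = theta A φ w' h' (a ⊗ₜ f e)
    rw [e3, e4, map_mul, map_mul, map_mul, theta_cst, theta_fst, theta_cst, theta_fst, hf]
    congr 1
    · show ((pullback.snd w (g A φ)).appTop ≫ iA.appTop) _ = _
      rw [← Scheme.Hom.comp_appTop, e2]
      rfl
    · show ((pullback.fst w (g A φ)).appTop ≫ iA.appTop) _ = (i.appTop ≫ (pullback.fst w' (g A φ)).appTop) _
      rw [← Scheme.Hom.comp_appTop, ← Scheme.Hom.comp_appTop, e1]

/-- Global sections of a push-out. -/
theorem isPullback_gamma {X T Z P : Scheme.{u}} {i : Z ⟶ X} {j : Z ⟶ T} {a : X ⟶ P} {b : T ⟶ P}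
    (h : IsPushout i j a b) : IsPullback a.appTop b.appTop i.appTop j.appTop := by
  haveI : Scheme.Γ.rightOp.IsLeftAdjoint := ⟨_, ⟨ΓSpec.adjunction⟩⟩
  exact (h.map Scheme.Γ.rightOp).unop.flip

end Groth.Agent.Lib.PinchCoh27.Geom
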