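import Groth.Prelude.Def_W4c3jacimperfPinch
import Groth.Agent.Lib.PinchCoh27.Alg
import Groth.Agent.Lib.PinchCoh27.Geom
import Groth.Agent.S15954
import Groth.Agent.S15944
import Groth.Agent.S2431
import Mathlib.RingTheory.Unramified.Field
import Mathlib.RingTheory.Etale.Basic
import Mathlib.FieldTheory.IsAlgClosed.AlgebraicClosure

/-!
# Cohomological flatness in dimension zero of a pinched scheme
-/

set_option autoImplicit false
set_option linter.style.haveILetI false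
universe u

open CategoryTheory Limits AlgebraicGeometry Opposite TopologicalSpace
open scoped TensorProduct

noncomputable section

namespace Groth.Agent.Lib.PinchCoh27.Main

open Groth.Agent.Lib.PinchCoh27.Geom

theorem exists_of_isPullback' {A B C D : CommRingCat.{u}} {a : A ⟶ B} {b : A ⟶ C} {i : B ⟶ D}
    {j : C ⟶ D} (h : IsPullback a b i j) (x : B) (y : C) (e : i x = j y) :
    ∃ z, a z = x ∧ b z = y :=
  Types.exists_of_isPullback (h.map (forget CommRingCat)) x y e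

theorem ext_of_isPullback' {A B C D : CommRingCat.{u}} {a : A ⟶ B} {b : A ⟶ C} {i : B ⟶ D}
    {j : C ⟶ D} (h : IsPullback a b i j) (x y : A) (e₁ : a x = a y) (e₂ : b x = b y) : x = y :=
  Types.ext_of_isPullback (h.map (forget CommRingCat)) e₁ e₂

variable {X Y T Z : Scheme.{u}} [IsAffine Y]

theorem main (hR : IsDedekindDomain Γ(Y, ⊤))
    (f : X ⟶ Y) (t : T ⟶ Y) (ξ : Z ⟶ T) (ι : Z ⟶ X)
    [IsProper f] [Flat f] [IsFinite t] [IsFinite (ξ ≫ t)] [IsClosedImmersion ι] (hsq : ι ≫ f = ξ ≫ t)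
    (hstd : ∀ y : Y, ∃ U : Y.Opens, IsAffineOpen U ∧ y ∈ U ∧ ∃ V : X.Opens, IsAffineOpen V ∧
      V ≤ f ⁻¹ᵁ U ∧ ∀ z : Z, (ξ ≫ t).base z ∈ U → ι.base z ∈ V)
    [IsFinite ξ] [Flat ξ] [Surjective ξ]
    {P : Scheme.{u}} (a : X ⟶ P) (b : T ⟶ P) (hP : IsPushout ι ξ a b)
    (hv : ∀ U : Y.affineOpens, @Pinch.CokerProjective Γ(Y, U) Γ(Z, (ξ ≫ t) ⁻¹ᵁ U) Γ(T, t ⁻¹ᵁ U) _ _ _
      ((ξ ≫ t).app U).hom.toAlgebra (ξ.app (t ⁻¹ᵁ U)).hom)
    (p : P ⟶ Y) (hap : a ≫ p = f) (hbp : b ≫ p = t)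
    (hcf : ∀ (A : Type u) [CommRing A] (φ : Γ(Y, ⊤) →+* A),
      IsPushout f.appTop (CommRingCat.ofHom φ)
        (Limits.pullback.fst f (Spec.map (CommRingCat.ofHom φ) ≫ Y.isoSpec.inv)).appTop
        ((Scheme.ΓSpecIso (CommRingCat.of A)).inv ≫
          (Limits.pullback.snd f (Spec.map (CommRingCat.ofHom φ) ≫ Y.isoSpec.inv)).appTop))
    (hpO : IsIso p.appTop)
    (het : @Algebra.Etale Γ(Y, ⊤) Γ(X, ⊤) _ _ f.appTop.hom.toAlgebra)
    (A : Type u) [CommRing A] (φ : Γ(Y, ⊤) →+* A) :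
    IsPushout p.appTop (CommRingCat.ofHom φ) (pullback.fst p (g A φ)).appTop (cst A φ p) := by
  haveI := hR
  haveI : IsNoetherianRing Γ(Y, ⊤) := inferInstance
  haveI : IsLocallyNoetherian Y := by
    haveI : IsLocallyNoetherian (Spec Γ(Y, ⊤)) := inferInstance
    exact isLocallyNoetherian_of_isOpenImmersion Y.isoSpec.hom
  haveI : IsProper p := (Groth.Agent.S15944.result f t ξ ι hsq hstd a b hP p hap hbp).2 inferInstance inferInstance
  haveI hgc : GeometricallyConnected p :=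
    (Groth.Agent.S2431.result p (fun U => isIso_app_of_top p hpO U)).2
  -- the rings
  letI : Algebra Γ(Y, ⊤) Γ(X, ⊤) := f.appTop.hom.toAlgebra
  letI : Algebra Γ(Y, ⊤) Γ(T, ⊤) := t.appTop.hom.toAlgebra
  letI : Algebra Γ(Y, ⊤) Γ(Z, ⊤) := (ξ ≫ t).appTop.hom.toAlgebra
  haveI : Algebra.Etale Γ(Y, ⊤) Γ(X, ⊤) := het
  have cι : ∀ r, ι.appTop (f.appTop r) = (ξ ≫ t).appTop r := fun r => by
    show (f.appTop ≫ ι.appTop) r = (ξ ≫ t).appTop r
    rw [← Scheme.Hom.comp_appTop, hsq]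
  have cξ : ∀ r, ξ.appTop (t.appTop r) = (ξ ≫ t).appTop r := fun r => by
    show (t.appTop ≫ ξ.appTop) r = (ξ ≫ t).appTop r
    rw [← Scheme.Hom.comp_appTop]
  let ιE : Γ(X, ⊤) →ₐ[Γ(Y, ⊤)] Γ(Z, ⊤) := { ι.appTop.hom with commutes' := cι }
  let ξB : Γ(T, ⊤) →ₐ[Γ(Y, ⊤)] Γ(Z, ⊤) := { ξ.appTop.hom with commutes' := cξ }
  let W := LinearMap.range ξB.toLinearMap
  haveI : Module.Projective Γ(Y, ⊤) (Γ(Z, ⊤) ⧸ W) := by
    have h1 : Module.Projective Γ(Y, ⊤) (Γ(Z, ⊤) ⧸ Submodule.span Γ(Y, ⊤) (Set.range ξB.toLinearMap)) :=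
      hv ⟨⊤, isAffineOpen_top Y⟩
    rwa [← LinearMap.coe_range, Submodule.span_eq] at h1
  haveI : Module.IsTorsionFree Γ(Y, ⊤) (Γ(Z, ⊤) ⧸ W) :=
    Submodule.isTorsionFree_iff_torsion_eq_bot.2 Module.Flat.torsion_eq_bot
  haveI : IsAffine T := isAffine_of_isAffineHom t
  haveI : IsAffine Z := isAffine_of_isAffineHom ξ
  have hξinj : Function.Injective ξB.toLinearMap :=
    ((Flat.flat_and_surjective_iff_faithfullyFlat_of_isAffine ξ).1 ⟨inferInstance, inferInstance⟩).injective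
  have hξ : ∀ (M : Type u) [AddCommGroup M] [Module Γ(Y, ⊤) M],
      Function.Injective (ξB.toLinearMap.lTensor M) := fun M _ _ =>
    LinearMap.lTensor_injective_of_exact_of_flat W.mkQ (Submodule.mkQ_surjective _) _ hξinj
      (LinearMap.exact_map_mkQ_range _) M
  let u0 := W.mkQ.comp ιE.toLinearMap
  let K := LinearMap.range (Algebra.linearMap Γ(Y, ⊤) Γ(X, ⊤))
  -- the kernel over the base
  have hker0 : LinearMap.ker u0 = K := by
    refine le_antisymm (fun e he => ?_) ?_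
    · obtain ⟨y, hy⟩ := (Submodule.Quotient.mk_eq_zero W).1 (show W.mkQ (ιE e) = 0 from he)
      obtain ⟨z, hz, -⟩ := exists_of_isPullback' (isPullback_gamma hP) e y hy.symm
      obtain ⟨r, rfl⟩ := ((ConcreteCategory.isIso_iff_bijective _).1 hpO).2 z
      refine ⟨r, ?_⟩
      rw [← hz]
      show f.appTop r = (p.appTop ≫ a.appTop) r
      rw [← Scheme.Hom.comp_appTop, hap]
    · rintro _ ⟨r, rfl⟩
      show W.mkQ (ιE (algebraMap _ _ r)) = 0
      rw [AlgHom.commutes, Submodule.mkQ_apply, Submodule.Quotient.mk_eq_zero]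
      exact ⟨algebraMap _ _ r, ξB.commutes r⟩
  let u : (Γ(X, ⊤) ⧸ K) →ₗ[Γ(Y, ⊤)] (Γ(Z, ⊤) ⧸ W) := K.liftQ u0 hker0.ge
  have hu : Function.Injective u := LinearMap.ker_eq_bot.1 (Submodule.ker_liftQ_eq_bot _ _ _ hker0.le)
  haveI : Module.IsTorsionFree Γ(Y, ⊤) (Γ(X, ⊤) ⧸ K) :=
    Function.Injective.moduleIsTorsionFree u hu (fun r x => map_smul u r x)
  haveI : Algebra.IsIntegral Γ(Y, ⊤) Γ(X, ⊤) := ⟨isIntegral_appTop_of_universallyClosed f⟩
  haveI : Module.Finite Γ(Y, ⊤) Γ(X, ⊤) := Algebra.IsIntegral.finite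
  -- the pull-back of the push-out, for any base change
  have hbc : ∀ (L : Type u) [CommRing L] (ψ : Γ(Y, ⊤) →+* L),
      letI := ψ.toAlgebra
      ∃ (aA : pullback f (g L ψ) ⟶ pullback p (g L ψ)) (bA : pullback t (g L ψ) ⟶ pullback p (g L ψ))
        (ιA : pullback (ξ ≫ t) (g L ψ) ⟶ pullback f (g L ψ))
        (ξA : pullback (ξ ≫ t) (g L ψ) ⟶ pullback t (g L ψ)),
        IsPullback aA.appTop bA.appTop ιA.appTop ξA.appTop ∧
        aA ≫ pullback.fst _ _ = pullback.fst _ _ ≫ a ∧ aA ≫ pullback.snd _ _ = pullback.snd _ _ ∧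
        bA ≫ pullback.snd _ _ = pullback.snd _ _ ∧
        (∀ x, ιA.appTop (theta L ψ f (hcf L ψ) x) =
          theta L ψ (ξ ≫ t) (isBC_of_isAffineHom L ψ (ξ ≫ t)) (ιE.toLinearMap.lTensor L x)) ∧
        ∀ y, ξA.appTop (theta L ψ t (isBC_of_isAffineHom L ψ t) y) =
          theta L ψ (ξ ≫ t) (isBC_of_isAffineHom L ψ (ξ ≫ t)) (ξB.toLinearMap.lTensor L y) := by
    intro L _ ψ
    have hpo := Groth.Agent.S15954.result f t ξ ι hsq hstd a b hP hv p hap hbp (g L ψ)
    refine ⟨_, _, _, _, isPullback_gamma hpo, pullback.lift_fst _ _ _, pullback.lift_snd _ _ _,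
      pullback.lift_snd _ _ _, ?_, ?_⟩
    · exact theta_natural L ψ f (ξ ≫ t) (hcf L ψ) _ ι hsq _ (pullback.lift_fst _ _ _)
        (pullback.lift_snd _ _ _) ιE fun _ => rfl
    · exact theta_natural L ψ t (ξ ≫ t) _ _ ξ rfl _ (pullback.lift_fst _ _ _)
        (pullback.lift_snd _ _ _) ξB fun _ => rfl
  -- exactness after tensoring
  have hexW : ∀ (M : Type u) [AddCommGroup M] [Module Γ(Y, ⊤) M] (x : M ⊗[Γ(Y, ⊤)] Γ(X, ⊤)),
      u0.lTensor M x = 0 → ∃ y, ξB.toLinearMap.lTensor M y = ιE.toLinearMap.lTensor M x := fun M _ _ x hx => by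
    refine ((lTensor_exact M (LinearMap.exact_map_mkQ_range ξB.toLinearMap) (Submodule.mkQ_surjective _))
      (ιE.toLinearMap.lTensor M x)).1 ?_
    rw [← LinearMap.comp_apply, ← LinearMap.lTensor_comp]
    exact hx
  have hexK : ∀ (M : Type u) [AddCommGroup M] [Module Γ(Y, ⊤) M] (x : M ⊗[Γ(Y, ⊤)] Γ(X, ⊤)),
      K.mkQ.lTensor M x = 0 → ∃ m, m ⊗ₜ[Γ(Y, ⊤)] (1 : Γ(X, ⊤)) = x := fun M _ _ x hx => by
    obtain ⟨w, hw⟩ := ((lTensor_exact M (LinearMap.exact_map_mkQ_range (Algebra.linearMap Γ(Y, ⊤) Γ(X, ⊤)))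
      (Submodule.mkQ_surjective _)) x).1 hx
    refine ⟨TensorProduct.rid Γ(Y, ⊤) M w, ?_⟩
    rw [← hw]
    clear hw
    induction w using TensorProduct.induction_on with
    | zero => simp
    | add v v' hv hv' => rw [map_add, map_add, TensorProduct.add_tmul, hv, hv']
    | tmul m r => rw [TensorProduct.rid_tmul, LinearMap.lTensor_tmul, Algebra.linearMap_apply,
        TensorProduct.smul_tmul, Algebra.algebraMap_eq_smul_one]
  -- on algebraically closed fields
  have hfield : ∀ (L : Type u) [Field L] [IsAlgClosed L] [Algebra Γ(Y, ⊤) L],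
      Function.Injective (u.lTensor L) := by
    intro L _ _ iL
    obtain ⟨ψ, rfl⟩ : ∃ ψ : Γ(Y, ⊤) →+* L, iL = ψ.toAlgebra :=
      ⟨algebraMap _ _, Algebra.algebra_ext _ _ fun _ => rfl⟩
    letI := ψ.toAlgebra
    rw [injective_iff_map_eq_zero]
    intro q hq
    obtain ⟨x, rfl⟩ := LinearMap.lTensor_surjective L (Submodule.mkQ_surjective K) q
    have hx : u0.lTensor L x = 0 := by
      rw [← LinearMap.comp_apply, ← LinearMap.lTensor_comp] at hq
      rwa [Submodule.liftQ_mkQ] at hq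
    haveI : ConnectedSpace ↥(pullback p (g L ψ)) :=
      GeometricallyConnected.geometrically_connectedSpace _ _ _ (IsPullback.of_hasPullback p (g L ψ))
    let mι := Algebra.TensorProduct.map (AlgHom.id L L) ιE
    let mξ := Algebra.TensorProduct.map (AlgHom.id L L) ξB
    have hmι : ∀ v, mι v = ιE.toLinearMap.lTensor L v := fun v => by
      induction v using TensorProduct.induction_on with
      | zero => simp
      | add v v' hv hv' => rw [map_add, map_add, hv, hv']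
      | tmul l e => simp [mι]
    have hmξ : ∀ v, mξ v = ξB.toLinearMap.lTensor L v := fun v => by
      induction v using TensorProduct.induction_on with
      | zero => simp
      | add v v' hv hv' => rw [map_add, map_add, hv, hv']
      | tmul l e => simp [mξ]
    let S : Subalgebra L (L ⊗[Γ(Y, ⊤)] Γ(X, ⊤)) := mξ.range.comap mι
    haveI : Algebra.Etale L (L ⊗[Γ(Y, ⊤)] Γ(X, ⊤)) := inferInstance
    haveI : IsReduced (L ⊗[Γ(Y, ⊤)] Γ(X, ⊤)) :=
      Algebra.FormallyUnramified.isReduced_of_field L _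
    haveI : IsReduced S := isReduced_of_injective S.val Subtype.val_injective
    haveI : Module.Finite L S := FiniteDimensional.finiteDimensional_submodule (Subalgebra.toSubmodule S)
    obtain ⟨y, hy⟩ := hexW L x hx
    have hxS : x ∈ S := by
      show mι x ∈ mξ.range
      exact ⟨y, by rw [hmι]; exact (hmξ y).trans hy⟩
    rcases subsingleton_or_nontrivial S with hsub | hnt
    · have : (⟨x, hxS⟩ : S) = 0 := Subsingleton.elim _ _
      have hx0 : x = 0 := congrArg Subtype.val this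
      rw [hx0, map_zero]
    obtain ⟨l, hl⟩ := Alg.mem_range_algebraMap (L := L) (S := S) (fun e he => by
      obtain ⟨y', hy'⟩ := e.2
      have he1 : (e.1 : L ⊗[Γ(Y, ⊤)] Γ(X, ⊤)) * e.1 = e.1 := congrArg Subtype.val he
      have hye : y' * y' = y' := by
        have h1 : mξ (y' * y') = mξ y' := by
          rw [map_mul]
          show mξ.toRingHom y' * mξ.toRingHom y' = mξ.toRingHom y'
          rw [hy']
          show mι e.1 * mι e.1 = mι e.1
          rw [← map_mul, he1]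
        rw [hmξ, hmξ] at h1
        exact hξ L h1
      obtain ⟨aA, bA, ιA, ξA, hpb, -, -, -, hιA, hξA⟩ := hbc L ψ
      have e0 : ιE.toLinearMap.lTensor L e.1 = ξB.toLinearMap.lTensor L y' := by
        rw [← hmι, ← hmξ]; exact hy'.symm
      obtain ⟨z, hz1, hz2⟩ := exists_of_isPullback' hpb (theta L ψ f (hcf L ψ) e.1)
        (theta L ψ t (isBC_of_isAffineHom L ψ t) y') (by
          rw [hιA, hξA]
          exact congrArg _ e0)
      have hzz : IsIdempotentElem z := ext_of_isPullback' hpb _ _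
        (by rw [map_mul, hz1]; exact ((map_mul _ _ _).symm.trans (congrArg _ he1)))
        (by rw [map_mul, hz2]; exact ((map_mul _ _ _).symm.trans (congrArg _ hye)))
      rcases H90.ConnFun.idempotent_eq_zero_or_one z hzz with rfl | rfl
      · left
        refine Subtype.ext ((theta_bijective L ψ f (hcf L ψ)).1 ?_)
        rw [← hz1, map_zero]
        exact (map_zero _).symm
      · right
        refine Subtype.ext ((theta_bijective L ψ f (hcf L ψ)).1 ?_)
        rw [← hz1, map_one]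
        exact (map_one _).symm) ⟨x, hxS⟩
    have hx1 : x = l ⊗ₜ[Γ(Y, ⊤)] (1 : Γ(X, ⊤)) := (congrArg Subtype.val hl).symm.trans (by simp)
    rw [hx1, LinearMap.lTensor_tmul, Submodule.mkQ_apply,
      (Submodule.Quotient.mk_eq_zero K).2 ⟨1, map_one (algebraMap Γ(Y, ⊤) Γ(X, ⊤))⟩, TensorProduct.tmul_zero]
  have hmax : ∀ m : Ideal Γ(Y, ⊤), m.IsMaximal → Function.Injective (u.lTensor (Γ(Y, ⊤) ⧸ m)) := by
    intro m hm
    letI := Ideal.Quotient.field m
    let c : (Γ(Y, ⊤) ⧸ m) →ₗ[Γ(Y, ⊤)] AlgebraicClosure (Γ(Y, ⊤) ⧸ m) :=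
      (IsScalarTower.toAlgHom Γ(Y, ⊤) (Γ(Y, ⊤) ⧸ m) (AlgebraicClosure (Γ(Y, ⊤) ⧸ m))).toLinearMap
    have hc : Function.Injective c := (algebraMap (Γ(Y, ⊤) ⧸ m) (AlgebraicClosure (Γ(Y, ⊤) ⧸ m))).injective
    have h1 : Function.Injective ((u.lTensor _) ∘ₗ (c.rTensor (Γ(X, ⊤) ⧸ K))) :=
      (hfield (AlgebraicClosure (Γ(Y, ⊤) ⧸ m))).comp
        (Module.Flat.rTensor_preserves_injective_linearMap c hc)
    rw [LinearMap.lTensor_comp_rTensor, ← LinearMap.rTensor_comp_lTensor, LinearMap.coe_comp] at h1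
    exact h1.of_comp
  letI := φ.toAlgebra
  have huA := Alg.lTensor_injective u hu hmax A
  obtain ⟨aA, bA, ιA, ξA, hpb, haf, has, hbs, hιA, hξA⟩ := hbc A φ
  have h1A : Function.Injective fun r : A => r ⊗ₜ[Γ(Y, ⊤)] (1 : Γ(X, ⊤)) := by
    have hinj : Function.Injective (Algebra.linearMap Γ(Y, ⊤) Γ(X, ⊤)) := by
      intro r r' hrr
      refine ((ConcreteCategory.isIso_iff_bijective _).1 hpO).1 (ext_of_isPullback' (isPullback_gamma hP) _ _ ?_ ?_)
      · show (p.appTop ≫ a.appTop) r = (p.appTop ≫ a.appTop) r'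
        rw [← Scheme.Hom.comp_appTop, hap]
        exact hrr
      · show (p.appTop ≫ b.appTop) r = (p.appTop ≫ b.appTop) r'
        rw [← Scheme.Hom.comp_appTop, hbp]
        refine hξinj ?_
        show ξB (algebraMap _ _ r) = ξB (algebraMap _ _ r')
        rw [AlgHom.commutes, AlgHom.commutes, ← ιE.commutes, ← ιE.commutes]
        exact congrArg ιE hrr
    have h2 := (LinearMap.lTensor_injective_of_exact_of_flat K.mkQ (Submodule.mkQ_surjective _) _ hinj
      (LinearMap.exact_map_mkQ_range _) A).comp (TensorProduct.rid Γ(Y, ⊤) A).symm.injective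
    intro r r' h
    refine h2 ?_
    simpa using h
  have key : ∀ r, aA.appTop (cst A φ p r) = theta A φ f (hcf A φ) (r ⊗ₜ 1) := fun r => by
    rw [theta_cst]
    show ((pullback.snd p (g A φ)).appTop ≫ aA.appTop) _ = _
    rw [← Scheme.Hom.comp_appTop, has]
    rfl
  have hbij : Function.Bijective (cst A φ p) := by
    refine ⟨fun r r' h => h1A ((theta_bijective A φ f (hcf A φ)).1 ?_), fun z => ?_⟩
    · rw [← key, ← key, h]
    obtain ⟨x, hx⟩ := (theta_bijective A φ f (hcf A φ)).2 (aA.appTop z)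
    obtain ⟨y, hy⟩ := (theta_bijective A φ t (isBC_of_isAffineHom A φ t)).2 (bA.appTop z)
    have hw : ιE.toLinearMap.lTensor A x = ξB.toLinearMap.lTensor A y := by
      refine (theta_bijective A φ (ξ ≫ t) (isBC_of_isAffineHom A φ (ξ ≫ t))).1 ?_
      rw [← hιA, ← hξA, hx, hy]
      exact ConcreteCategory.congr_hom hpb.w z
    have hx0 : u0.lTensor A x = 0 := by
      show (W.mkQ ∘ₗ ιE.toLinearMap).lTensor A x = 0
      rw [LinearMap.lTensor_comp, LinearMap.comp_apply, hw, ← LinearMap.comp_apply, ← LinearMap.lTensor_comp,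
        show W.mkQ ∘ₗ ξB.toLinearMap = 0 from LinearMap.range_le_ker_iff.1 (W.ker_mkQ).ge,
        LinearMap.lTensor_zero, LinearMap.zero_apply]
    obtain ⟨r, hr⟩ := hexK A x (huA (by
      rw [← LinearMap.comp_apply, ← LinearMap.lTensor_comp, Submodule.liftQ_mkQ, hx0, map_zero]))
    have hyr : y = r ⊗ₜ 1 := by
      refine hξ A ?_
      rw [← hw, ← hr, LinearMap.lTensor_tmul, LinearMap.lTensor_tmul]
      congr 1
      exact (map_one ιE).trans (map_one ξB).symm
    refine ⟨r, ext_of_isPullback' hpb _ _ ?_ ?_⟩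
    · rw [key, hr, hx]
    · rw [← hy, hyr, theta_cst]
      show ((pullback.snd p (g A φ)).appTop ≫ bA.appTop) _ = _
      rw [← Scheme.Hom.comp_appTop, hbs]
      rfl
  haveI := hpO
  haveI : IsIso (cst A φ p) := (ConcreteCategory.isIso_iff_bijective _).2 hbij
  refine IsPushout.of_horiz_isIso ⟨?_⟩
  show p.appTop ≫ (pullback.fst p (g A φ)).appTop = CommRingCat.ofHom φ ≫ cst A φ p
  rw [cst, ← Category.assoc (CommRingCat.ofHom φ), ← g_appTop, ← Scheme.Hom.comp_appTop,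
    ← Scheme.Hom.comp_appTop, pullback.condition]

end Groth.Agent.Lib.PinchCoh27.Main
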